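import Cfsg.Agent.H90.SiftMain
import Cfsg.Agent.H90.SiftSuz.Small
import Cfsg.Agent.H90.SiftSuz.N0
import Cfsg.Agent.H90.SiftSuz.N1
import Cfsg.Agent.H90.SiftSuz.N2
import Cfsg.Agent.H90.SiftSuz.A0
import Cfsg.Agent.H90.SiftSuz.B0
import Cfsg.Agent.H90.SiftSuz.B1
import Cfsg.Agent.H90.SiftSuz.B2
import Cfsg.Agent.H90.SiftSuz.B3
import Cfsg.Agent.H90.SiftSuz.SA0
import Cfsg.Agent.H90.SiftSuz.SB0
import Cfsg.Agent.H90.SiftSuz.SB1
import Cfsg.Agent.H90.SiftSuz.SC0

/-! Assembly (generated, owner: helper90). -/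

set_option autoImplicit false
set_option maxRecDepth 1000000

namespace Cfsg.Agent.H90.SiftSuz

open Cfsg.Agent.CosetEnum Cfsg.Agent.H90.Sift

open Subgroup

theorem ncov : Cov (newB P Cfsg.Agent.CosetEnum.SuzT7.P ws) 0 P.m :=
  (((Cov.of n0 rfl).trans (Cov.of n1 rfl)).trans (Cov.of n2 rfl))

section

variable {G : Type*} [Group G] [MulAction G (Fin P.m)] {g : ℕ → G} (h : LettersOK P g)

include h

theorem levA0 : LevC P (closure ({g 1, g 3, g 5} : Set G)) [] 18 mA0 1782 0 1782 :=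
    (show LevC P (closure ({g 1, g 3, g 5} : Set G)) [] 18 mA0 _ _ _ from (lvS_sound h.ra h.mem (b := 18) (show 18 < 1782 by norm_num) a0_0))

theorem levA1 : LevC P (closure ({g 1, g 3, g 5} : Set G)) [18] 36 mA1 416 0 1782 :=
    (show LevC P (closure ({g 1, g 3, g 5} : Set G)) [18] 36 mA1 _ _ _ from (lvS_sound h.ra h.mem (b := 36) (show 36 < 1782 by norm_num) a1_0))

theorem levA2 : LevC P (closure ({g 1, g 3, g 5} : Set G)) [36, 18] 53 mA2 100 0 1782 :=
    (show LevC P (closure ({g 1, g 3, g 5} : Set G)) [36, 18] 53 mA2 _ _ _ from (lvS_sound h.ra h.mem (b := 53) (show 53 < 1782 by norm_num) a2_0))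

theorem levA3 : LevC P (closure ({g 1, g 3, g 5} : Set G)) [53, 36, 18] 202 mA3 63 0 1782 :=
    (show LevC P (closure ({g 1, g 3, g 5} : Set G)) [53, 36, 18] 202 mA3 _ _ _ from (lvS_sound h.ra h.mem (b := 202) (show 202 < 1782 by norm_num) a3_0))

theorem levA4 : LevC P (closure ({g 1, g 3, g 5} : Set G)) [202, 53, 36, 18] 750 mA4 32 0 1782 :=
    (show LevC P (closure ({g 1, g 3, g 5} : Set G)) [202, 53, 36, 18] 750 mA4 _ _ _ from (lvS_sound h.ra h.mem (b := 750) (show 750 < 1782 by norm_num) a4_0))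

theorem levA5 : LevC P (closure ({g 1, g 3, g 5} : Set G)) [750, 202, 53, 36, 18] 1244 mA5 3 0 1782 :=
    (show LevC P (closure ({g 1, g 3, g 5} : Set G)) [750, 202, 53, 36, 18] 1244 mA5 _ _ _ from (lvS_sound h.ra h.mem (b := 1244) (show 1244 < 1782 by norm_num) a5_0))

theorem chainA : ChP P (closure ({g 1, g 3, g 5} : Set G)) lA [] :=
  ⟨(show 18 < 1782 by norm_num), (levA0 h).1, ⟨(show 36 < 1782 by norm_num), (levA1 h).1, ⟨(show 53 < 1782 by norm_num), (levA2 h).1, ⟨(show 202 < 1782 by norm_num), (levA3 h).1, ⟨(show 750 < 1782 by norm_num), (levA4 h).1, ⟨(show 1244 < 1782 by norm_num), (levA5 h).1, trivial⟩⟩⟩⟩⟩⟩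

theorem levB0 : LevC P (closure ({g 1, g 3, g 5} : Set G)) [] 77 mB0 1782 0 1782 :=
    (show LevC P (closure ({g 1, g 3, g 5} : Set G)) [] 77 mB0 _ _ _ from (lvS_sound h.ra h.mem (b := 77) (show 77 < 1782 by norm_num) b0_0))

theorem levB1 : LevC P (closure ({g 1, g 3, g 5} : Set G)) [77] 1155 mB1 1365 0 1782 :=
    (show LevC P (closure ({g 1, g 3, g 5} : Set G)) [77] 1155 mB1 _ _ _ from (lvS_sound h.ra h.mem (b := 1155) (show 1155 < 1782 by norm_num) b1_0))

theorem levB2 : LevC P (closure ({g 1, g 3, g 5} : Set G)) [1155, 77] 934 mB2 1024 0 1782 :=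
    (((show LevC P (closure ({g 1, g 3, g 5} : Set G)) [1155, 77] 934 mB2 _ _ _ from (lvS_sound h.ra h.mem (b := 934) (show 934 < 1782 by norm_num) b2_0)).append
      (lvS_sound h.ra h.mem (b := 934) (show 934 < 1782 by norm_num) b2_1)).append
      (lvS_sound h.ra h.mem (b := 934) (show 934 < 1782 by norm_num) b2_2))

theorem levB3 : LevC P (closure ({g 1, g 3, g 5} : Set G)) [934, 1155, 77] 606 mB3 60 0 1782 :=
    (show LevC P (closure ({g 1, g 3, g 5} : Set G)) [934, 1155, 77] 606 mB3 _ _ _ from (lvS_sound h.ra h.mem (b := 606) (show 606 < 1782 by norm_num) b3_0))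

theorem levB4 : LevC P (closure ({g 1, g 3, g 5} : Set G)) [606, 934, 1155, 77] 270 mB4 3 0 1782 :=
    (show LevC P (closure ({g 1, g 3, g 5} : Set G)) [606, 934, 1155, 77] 270 mB4 _ _ _ from (lvS_sound h.ra h.mem (b := 270) (show 270 < 1782 by norm_num) b4_0))

theorem chainB : ChP P (closure ({g 1, g 3, g 5} : Set G)) lB [] :=
  ⟨(show 77 < 1782 by norm_num), (levB0 h).1, ⟨(show 1155 < 1782 by norm_num), (levB1 h).1, ⟨(show 934 < 1782 by norm_num), (levB2 h).1, ⟨(show 606 < 1782 by norm_num), (levB3 h).1, ⟨(show 270 < 1782 by norm_num), (levB4 h).1, trivial⟩⟩⟩⟩⟩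

end

theorem basedA : Based P 1 lA := ⟨Nat.eq_of_beq_eq_true (by decide +kernel : Nat.beq (run P 1 18) 36 = true), ⟨Nat.eq_of_beq_eq_true (by decide +kernel : Nat.beq (run P 1 36) 53 = true), ⟨Nat.eq_of_beq_eq_true (by decide +kernel : Nat.beq (run P 1 53) 202 = true), ⟨Nat.eq_of_beq_eq_true (by decide +kernel : Nat.beq (run P 1 202) 750 = true), ⟨Nat.eq_of_beq_eq_true (by decide +kernel : Nat.beq (run P 1 750) 1244 = true), trivial⟩⟩⟩⟩⟩

theorem ltA : ∀ t ∈ lA, t.1 < P.m := by decide +kernel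

theorem basedB : Based P 3 lB := ⟨Nat.eq_of_beq_eq_true (by decide +kernel : Nat.beq (run P 3 77) 1155 = true), ⟨Nat.eq_of_beq_eq_true (by decide +kernel : Nat.beq (run P 3 1155) 934 = true), ⟨Nat.eq_of_beq_eq_true (by decide +kernel : Nat.beq (run P 3 934) 606 = true), ⟨Nat.eq_of_beq_eq_true (by decide +kernel : Nat.beq (run P 3 606) 270 = true), trivial⟩⟩⟩⟩

theorem ltB : ∀ t ∈ lB, t.1 < P.m := by decide +kernel

section

variable {G : Type*} [Group G] [MulAction G (Fin P.m)] {g : ℕ → G} (h : RA P g)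

include h

theorem covA (hx : ExP G P lA []) : CovP P (elt g 1) (elt g 0x1) {z | ∃ w ∈ [0], z = elt g w} 18 0 P.m :=
  (CovP.of h hx ltA basedA (show pts P 0x1 _ _ [0] (lms lA) _ _ _ = true from sA0) rfl (by decide +kernel))

theorem covB (hx : ExP G P lB []) : CovP P (elt g 3) (elt g 0x3) {z | ∃ w ∈ (gs.map fun t => t.1), z = elt g w} 77 0 P.m :=
  ((CovP.of h hx ltB basedB (show pts P 0x3 _ _ (gs.map fun t => t.1) (lms lB) _ _ _ = true from sB0) rfl (by decide +kernel)).trans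
    (CovP.of h hx ltB basedB (show pts P 0x3 _ _ (gs.map fun t => t.1) (lms lB) _ _ _ = true from sB1) rfl (by decide +kernel)))

theorem covC (hx : ExP G P lA []) : CovP P (elt g 1) (elt g 0x9) {z | ∃ w ∈ (gc.map fun t => t.1), z = elt g w} 18 0 P.m :=
  (CovP.of h hx ltA basedA (show pts P 0x9 _ _ (gc.map fun t => t.1) (lms lA) _ _ _ = true from sC0) rfl (by decide +kernel))

end


theorem hks : ∀ m < 13, m ≠ 0 → ∃ a : ℕ, (4 ^ a * m) % 13 = 1 ∨ (4 ^ a * m) % 13 = 2 := by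
  have h : ∀ m < 13, m ≠ 0 → ∃ a < 13, (4 ^ a * m) % 13 = 1 ∨ (4 ^ a * m) % 13 = 2 := by decide +kernel
  intro m h1 h2
  obtain ⟨a, _, h3⟩ := h m h1 h2
  exact ⟨a, h3⟩

theorem concl {G : Type} [Group G] [Finite G] {f : ℕ → G} (hN : Nat.card G = 448345497600) [MulAction G (Fin P.m)] (h : LettersOK P (newL f ws)) :
    Concl G (newL f ws 1) (newL f ws 3) (newL f ws 5) ((newL f ws 1) ^ 2) (elt (newL f ws) e2) (true = true) ∧
      closure ({newL f ws 1, newL f ws 3, newL f ws 5} : Set G) = ⊤ ∧ ExP G P lA [] ∧ ExP G P lB [] := by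
  have cA := chainA h
  have cB := chainB h
  have hcA : Nat.card G ≤ (lA.map fun t => t.2.2).prod := by rw [hN]; decide +kernel
  have hcB : Nat.card G ≤ (lB.map fun t => t.2.2).prod := by rw [hN]; decide +kernel
  have xA := cA.exact' hcA
  have xB := cB.exact' hcB
  have : Fact (Nat.Prime 13) := ⟨by norm_num⟩
  refine ⟨?_, cA.top hcA, xA, xB⟩
  exact sift_main h (p := 13) (by rw [hN]; decide +kernel) (hB := xB) (bA := 18) (bB := 77) (by decide +kernel) (by decide +kernel)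
    (fun i hi => covA h.ra xA i (Nat.zero_le _) hi) (fun i hi => covB h.ra xB i (Nat.zero_le _) hi)
    ⟨10, 3, by decide +kernel, by decide +kernel⟩ hks small (by norm_num) c1 c2

end Cfsg.Agent.H90.SiftSuz
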